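import Mathlib

universe u

open DirectSum MvPolynomial

namespace Groth.Agent.GrDegLib

variable {R A : Type u} [CommRing R] [CommRing A] [Algebra R A] (𝒜 : ℕ → Submodule R A) [GradedAlgebra 𝒜]
  {s : ℕ} (f : Fin s → A) (deg : Fin s → ℕ)

theorem monomial_mem (hf : ∀ i, f i ∈ 𝒜 (deg i)) (e : Fin s →₀ ℕ) :
    (∏ i, f i ^ e i) ∈ 𝒜 (∑ i, e i * deg i) := by
  refine SetLike.prod_mem_graded 𝒜 _ _ fun i _ => ?_
  simpa using SetLike.pow_mem_graded (e i) (hf i)

/-- A homogeneous piece lies in any submodule containing the monomials of that degree. -/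
theorem piece_le (hf : ∀ i, f i ∈ 𝒜 (deg i)) (hgen : Algebra.adjoin R (Set.range f) = ⊤) (m : ℕ)
    (N : Submodule R A) (hN : ∀ e : Fin s →₀ ℕ, ∑ i, e i * deg i = m → (∏ i, f i ^ e i) ∈ N) :
    𝒜 m ≤ N := by
  classical
  intro x hx
  have hx' : GradedAlgebra.proj 𝒜 m x = x := by
    rw [GradedAlgebra.proj_apply, DirectSum.decompose_of_mem_same 𝒜 hx]
  obtain ⟨p, rfl⟩ : ∃ p : MvPolynomial (Fin s) R, MvPolynomial.aeval f p = x := by
    have : x ∈ (MvPolynomial.aeval f : MvPolynomial (Fin s) R →ₐ[R] A).range := by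
      rw [← Algebra.adjoin_range_eq_range_aeval, hgen]; trivial
    exact this
  rw [← hx']
  clear hx hx'
  induction p using MvPolynomial.induction_on' with
  | monomial e c =>
    rw [MvPolynomial.aeval_monomial, ← Algebra.smul_def, map_smul, GradedAlgebra.proj_apply,
      Finsupp.prod_fintype _ _ (fun i => pow_zero _)]
    refine N.smul_mem c ?_
    by_cases h : ∑ i, e i * deg i = m
    · rw [DirectSum.decompose_of_mem_same 𝒜 (h ▸ monomial_mem 𝒜 f deg hf e)]
      exact hN e h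
    · rw [DirectSum.decompose_of_mem_ne 𝒜 (monomial_mem 𝒜 f deg hf e) h]
      exact N.zero_mem
  | add p q hp hq => rw [map_add, map_add]; exact N.add_mem hp hq

theorem mul_le_piece (i j : ℕ) : 𝒜 i * 𝒜 j ≤ 𝒜 (i + j) :=
  Submodule.mul_le.2 fun _ ha _ hb => SetLike.mul_mem_graded ha hb

theorem pow_le_piece (i k : ℕ) : 𝒜 i ^ k ≤ 𝒜 (k * i) := by
  induction k with
  | zero =>
    rw [pow_zero, zero_mul, Submodule.one_le]
    exact SetLike.one_mem_graded 𝒜
  | succ k ih =>
    rw [pow_succ, add_one_mul]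
    exact (mul_le_mul' ih le_rfl).trans (mul_le_piece 𝒜 _ _)

theorem add_lcm (hdeg : ∀ i, 0 < deg i) (hf : ∀ i, f i ∈ 𝒜 (deg i))
    (hgen : Algebra.adjoin R (Set.range f) = ⊤) (n : ℕ)
    (hn : (s - 1) * (Finset.univ.lcm deg - 1) ≤ n) :
    𝒜 (n + Finset.univ.lcm deg) = 𝒜 n * 𝒜 (Finset.univ.lcm deg) := by
  classical
  set l := Finset.univ.lcm deg with hl
  have hl0 : 0 < l := Nat.pos_of_ne_zero (Finset.lcm_ne_zero_iff.2 fun i _ => (hdeg i).ne')
  refine le_antisymm (piece_le 𝒜 f deg hf hgen _ _ fun e he => ?_) (mul_le_piece 𝒜 _ _)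
  have hdvd : ∀ i, deg i ∣ l := fun i => Finset.dvd_lcm (Finset.mem_univ i)
  obtain ⟨i, hi⟩ : ∃ i, l ≤ e i * deg i := by
    by_contra hcon
    push Not at hcon
    have hle : ∀ i, e i * deg i ≤ l - 1 := fun i => by have := hcon i; omega
    have h1 : ∑ i, e i * deg i ≤ s * (l - 1) :=
      (Finset.sum_le_sum fun i _ => hle i).trans (by simp)
    rw [he] at h1
    rcases Nat.eq_zero_or_pos s with rfl | hs
    · simp at h1; omega
    · obtain ⟨s', rfl⟩ := Nat.exists_eq_add_of_le' hs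
      simp only [Nat.add_sub_cancel] at hn
      rw [Nat.add_mul, Nat.one_mul] at h1
      omega
  set q := l / deg i
  have hq : q * deg i = l := Nat.div_mul_cancel (hdvd i)
  have hqe : q ≤ e i := Nat.le_of_mul_le_mul_right (hq ▸ hi) (hdeg i)
  let e' : Fin s →₀ ℕ := e - Finsupp.single i q
  have hee : e = e' + Finsupp.single i q :=
    (tsub_add_cancel_of_le (Finsupp.single_le_iff.2 hqe)).symm
  have hsplit : (∏ j, f j ^ e j) = (∏ j, f j ^ e' j) * f i ^ q := by
    rw [hee]
    simp only [Finsupp.add_apply, pow_add, Finset.prod_mul_distrib]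
    congr 1
    rw [Finset.prod_eq_single i (fun j _ hj => by rw [Finsupp.single_eq_of_ne hj, pow_zero])
      (fun h => absurd (Finset.mem_univ i) h), Finsupp.single_eq_same]
  have hdeg' : ∑ j, e' j * deg j = n := by
    have h2 : ∑ j, e j * deg j = ∑ j, e' j * deg j + l := by
      rw [hee]
      simp only [Finsupp.add_apply, add_mul, Finset.sum_add_distrib]
      congr 1
      rw [Finset.sum_eq_single i (fun j _ hj => by rw [Finsupp.single_eq_of_ne hj, zero_mul])
        (fun h => absurd (Finset.mem_univ i) h), Finsupp.single_eq_same, hq]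
    omega
  rw [hsplit]
  refine Submodule.mul_mem_mul (hdeg' ▸ monomial_mem 𝒜 f deg hf e') ?_
  have := SetLike.pow_mem_graded q (hf i)
  rwa [smul_eq_mul, hq] at this

theorem mul_lcm_eq_pow (hdeg : ∀ i, 0 < deg i) (hf : ∀ i, f i ∈ 𝒜 (deg i))
    (hgen : Algebra.adjoin R (Set.range f) = ⊤) (a : ℕ) (ha : s - 1 ≤ a) (k : ℕ) :
    𝒜 (k * (a * Finset.univ.lcm deg)) = 𝒜 (a * Finset.univ.lcm deg) ^ k := by
  classical
  set l := Finset.univ.lcm deg with hl
  induction k with
  | zero =>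
    rw [zero_mul, pow_zero]
    refine le_antisymm (piece_le 𝒜 f deg hf hgen _ _ fun e he => ?_) (Submodule.one_le.2 (SetLike.one_mem_graded 𝒜))
    have h0 : ∀ i, e i = 0 := fun i => by
      have := (Finset.sum_eq_zero_iff.1 he) i (Finset.mem_univ i)
      exact (mul_eq_zero.1 this).resolve_right (hdeg i).ne'
    simp only [h0, pow_zero, Finset.prod_const_one]
    exact Submodule.one_le.1 le_rfl
  | succ k ih =>
    rcases Nat.eq_zero_or_pos k with rfl | hk
    · simp
    refine le_antisymm ?_ (pow_le_piece 𝒜 _ _)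
    have hbound : ∀ t, (s - 1) * (l - 1) ≤ k * (a * l) + t := fun t => by
      have h1 : (s - 1) * (l - 1) ≤ a * l := Nat.mul_le_mul ha (Nat.sub_le l 1)
      have h2 : a * l ≤ k * (a * l) := Nat.le_mul_of_pos_left _ hk
      omega
    have hstep : ∀ t : ℕ, 𝒜 (k * (a * l) + t * l) ≤ 𝒜 (k * (a * l)) * 𝒜 l ^ t := by
      intro t
      induction t with
      | zero => simp
      | succ t iht =>
        rw [add_one_mul, ← add_assoc, add_lcm 𝒜 f deg hdeg hf hgen _ (hbound _), pow_succ, ← mul_assoc (𝒜 (k * (a * l)))]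
        exact mul_le_mul' iht le_rfl
    rw [add_one_mul, pow_succ, ← ih]
    exact (hstep a).trans (mul_le_mul' le_rfl (pow_le_piece 𝒜 l a))

open AlgebraicGeometry in
theorem iSup_basicOpen (hdeg : ∀ i, 0 < deg i) (hf : ∀ i, f i ∈ 𝒜 (deg i))
    (hgen : Algebra.adjoin R (Set.range f) = ⊤) (a : ℕ) (ha : 0 < a) :
    (⨆ g : 𝒜 (a * Finset.univ.lcm deg), Proj.basicOpen 𝒜 (g : A)) = ⊤ := by
  classical
  set l := Finset.univ.lcm deg with hl
  rw [eq_top_iff]
  intro x _
  obtain ⟨i, hi⟩ : ∃ i, f i ∉ x.asHomogeneousIdeal := by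
    by_contra hcon
    push Not at hcon
    refine x.not_irrelevant_le fun y hy => ?_
    have hy0 : GradedAlgebra.proj 𝒜 0 y = 0 := (HomogeneousIdeal.mem_irrelevant_iff 𝒜 y).1 hy
    rw [← DirectSum.sum_support_decompose 𝒜 y]
    refine Ideal.sum_mem _ fun m hm => ?_
    rcases Nat.eq_zero_or_pos m with rfl | hm'
    · rw [GradedAlgebra.proj_apply] at hy0
      rw [hy0]
      exact Ideal.zero_mem _
    · let N : Submodule R A := (x.asHomogeneousIdeal.toIdeal).restrictScalars R
      refine (piece_le 𝒜 f deg hf hgen m N fun e he => ?_) (Subtype.prop _)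
      obtain ⟨j, hj⟩ : ∃ j, e j ≠ 0 := by
        by_contra h
        push Not at h
        simp [h] at he
        omega
      exact Ideal.mem_of_dvd _ ((dvd_pow_self (f j) hj).trans (Finset.dvd_prod_of_mem _ (Finset.mem_univ j))) (hcon j)
  have hd : deg i ∣ a * l := Dvd.dvd.mul_left (Finset.dvd_lcm (Finset.mem_univ i)) a
  have hg : f i ^ (a * l / deg i) ∈ 𝒜 (a * l) := by
    have := SetLike.pow_mem_graded (a * l / deg i) (hf i)
    rwa [smul_eq_mul, Nat.div_mul_cancel hd] at this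
  exact TopologicalSpace.Opens.mem_iSup.2 ⟨⟨_, hg⟩,
    fun h => hi (x.isPrime.mem_of_pow_mem _ h)⟩

end Groth.Agent.GrDegLib
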